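import Groth.Prelude.Def_W4c3ghconstell
import Groth.Prelude.Def_W4c1tameactTame
import Mathlib

/-!
Weights of equivariant submodules of a module with finite-dimensional isotypic components.
-/

set_option autoImplicit false
set_option linter.style.haveILetI false
universe u v w x
open TensorProduct HopfRep W4c3ghconstell

namespace Groth.Agent.ConstellLib

variable {k : Type u} [Field k] {A : Type v} {M : Type x} [AddCommGroup M] [Module k M]

section coalg
variable [AddCommGroup A] [Module k A]

/-- contraction by a functional -/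
noncomputable def ct (g : A →ₗ[k] k) : M ⊗[k] A →ₗ[k] M :=
  (TensorProduct.rid k M).toLinearMap ∘ₗ g.lTensor M

theorem ct_tmul (g : A →ₗ[k] k) (m : M) (a : A) : ct g (m ⊗ₜ a) = g a • m := by simp [ct]

theorem ct_mem {P : Submodule k M} (g : A →ₗ[k] k) {z : M ⊗[k] A}
    (hz : z ∈ LinearMap.range (P.subtype.rTensor A)) : ct g z ∈ P := by
  obtain ⟨y, rfl⟩ := hz
  induction y using TensorProduct.induction_on with
  | zero => simp
  | tmul p a => rw [LinearMap.rTensor_tmul, ct_tmul]; exact P.smul_mem _ p.2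
  | add a b ha hb => rw [map_add, map_add]; exact add_mem ha hb

theorem mem_range_rTensor {P : Submodule k M} {z : M ⊗[k] A} (h : ∀ g : A →ₗ[k] k, ct g z ∈ P) :
    z ∈ LinearMap.range (P.subtype.rTensor A) := by
  let b := Module.Basis.ofVectorSpace k A
  classical
  obtain ⟨c, hc⟩ : ∃ c : (Module.Basis.ofVectorSpaceIndex k A) →₀ M,
      z = c.sum fun i m => m ⊗ₜ[k] b i := by
    refine ⟨TensorProduct.equivFinsuppOfBasisRight b z, ?_⟩
    conv_lhs => rw [← (TensorProduct.equivFinsuppOfBasisRight b).symm_apply_apply z]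
    rw [TensorProduct.equivFinsuppOfBasisRight_symm_apply]
  rw [hc]
  refine Submodule.sum_mem _ fun i _ => ?_
  have hi : c i ∈ P := by
    have := h (b.coord i)
    rw [hc, Finsupp.sum, map_sum] at this
    simp only [ct_tmul, Module.Basis.coord_apply, Module.Basis.repr_self, Finsupp.single_apply,
      ite_smul, one_smul, zero_smul, Finset.sum_ite_eq', Finsupp.mem_support_iff] at this
    by_cases h0 : c i = 0
    · rw [h0]; exact zero_mem _
    · rwa [if_pos h0] at this
  exact ⟨⟨c i, hi⟩ ⊗ₜ b i, rfl⟩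

variable [Coalgebra k A] [Comod k A M]

theorem isSubcomod_isoComp_inter {D : Submodule k A} (hD : IsSubcoalg k A D) {N : Submodule k M}
    (hN : IsSubcomod (k := k) (A := A) N) : IsSubcomod (k := k) (A := A) (N ⊓ isoComp M D) := by
  intro m hm
  refine mem_range_rTensor fun g => ⟨ct_mem g (hN m hm.1), ?_⟩
  obtain ⟨y, hy⟩ := (hm.2 : Comod.coact (k := k) (A := A) m ∈ LinearMap.range (D.subtype.lTensor M))
  -- move the coaction past the contraction
  have h1 : ∀ z : M ⊗[k] A, Comod.coact (k := k) (A := A) (ct g z) =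
      (ct g).lTensor M (TensorProduct.assoc k M A A ((Comod.coact (k := k) (A := A)).rTensor A z)) := fun z => by
    induction z using TensorProduct.induction_on with
    | zero => simp
    | add a b ha hb => simp only [map_add, ha, hb]
    | tmul p a =>
      rw [ct_tmul, map_smul, LinearMap.rTensor_tmul]
      generalize Comod.coact (k := k) (A := A) p = w
      induction w using TensorProduct.induction_on with
      | zero => simp [TensorProduct.zero_tmul]
      | add a b ha hb => simp only [TensorProduct.add_tmul, map_add, smul_add, ha, hb]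
      | tmul q c => simp [ct_tmul]
  show Comod.coact (k := k) (A := A) (ct g (Comod.coact (k := k) (A := A) m)) ∈
    LinearMap.range (D.subtype.lTensor M)
  rw [h1, show TensorProduct.assoc k M A A ((Comod.coact (k := k) (A := A)).rTensor A
      (Comod.coact (k := k) (A := A) m)) = (CoalgebraStruct.comul (R := k)).lTensor M
      (Comod.coact (k := k) (A := A) m) from LinearMap.congr_fun (Comod.coassoc (k := k) (A := A) (V := M)) m,
    ← hy]
  clear hy
  induction y using TensorProduct.induction_on with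
  | zero => simp
  | add a b ha hb => rw [map_add, map_add, map_add]; exact add_mem ha hb
  | tmul p d =>
    rw [LinearMap.lTensor_tmul, LinearMap.lTensor_tmul, LinearMap.lTensor_tmul]
    obtain ⟨w, hw⟩ := hD d d.2
    rw [show CoalgebraStruct.comul (R := k) (D.subtype d) = _ from hw.symm]
    clear hw
    induction w using TensorProduct.induction_on with
    | zero => simp
    | add a b ha hb => rw [map_add, map_add, TensorProduct.tmul_add]; exact add_mem ha hb
    | tmul d₁ d₂ =>
      refine ⟨g d₂ • (p ⊗ₜ d₁), ?_⟩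
      simp [ct_tmul, TensorProduct.tmul_smul]

/-- a projection adapted to two subspaces -/
theorem exists_proj (C E : Submodule k A) : ∃ π : A →ₗ[k] A, (∀ c ∈ C, π c = c) ∧ (∀ a, π a ∈ C) ∧
    ∀ e ∈ E, π e ∈ C ⊓ E := by
  obtain ⟨E', hsup, hinf⟩ : ∃ E' : Submodule k A, C ⊔ E' = C ⊔ E ∧ Disjoint C E' ∧ E' ≤ E := by
    obtain ⟨q, hq⟩ := Submodule.exists_isCompl ((C ⊓ E).comap E.subtype)
    refine ⟨q.map E.subtype, le_antisymm (sup_le_sup_left (Submodule.map_subtype_le E q) _)
      (sup_le le_sup_left fun e he => ?_), ?_, Submodule.map_subtype_le E q⟩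
    · obtain ⟨a, ha, b, hb, hab⟩ := Submodule.mem_sup.mp (hq.sup_eq_top ▸ Submodule.mem_top : (⟨e, he⟩ : E) ∈ _)
      rw [show e = (a : A) + b from (congrArg Subtype.val hab).symm]
      exact Submodule.add_mem_sup (Submodule.mem_inf.mp ha).1 ⟨b, hb, rfl⟩
    · rw [Submodule.disjoint_def]
      rintro _ hc ⟨b, hb, rfl⟩
      have := Submodule.disjoint_def.mp hq.disjoint b ⟨hc, b.2⟩ hb
      simp [this]
  obtain ⟨hdisj, hE'⟩ := hinf
  obtain ⟨W, hW⟩ := Submodule.exists_isCompl (C ⊔ E')
  have hC : IsCompl C (E' ⊔ W) := by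
    refine ⟨?_, codisjoint_iff.mpr (by rw [← sup_assoc]; exact hW.sup_eq_top)⟩
    exact hdisj.disjoint_sup_right_of_disjoint_sup_left hW.disjoint
  refine ⟨C.projection (E' ⊔ W) hC, fun c hc => Submodule.projection_apply_left hC ⟨c, hc⟩,
    fun a => Submodule.projection_apply_mem hC a, fun e he => ?_⟩
  obtain ⟨c, hc, e', he', rfl⟩ := Submodule.mem_sup.mp (hsup ▸ Submodule.mem_sup_right he : e ∈ C ⊔ E')
  rw [map_add, show C.projection (E' ⊔ W) hC c = c from Submodule.projection_apply_left hC ⟨c, hc⟩,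
    Submodule.projection_apply_right hC ⟨e', Submodule.mem_sup_left he'⟩, add_zero]
  refine ⟨hc, ?_⟩
  simpa using sub_mem he (hE' he')

theorem isSubcoalg_inf {C E : Submodule k A} (hC : IsSubcoalg k A C) (hE : IsSubcoalg k A E) :
    IsSubcoalg k A (C ⊓ E) := by
  obtain ⟨π, h1, -, h3⟩ := exists_proj C E
  intro d hd
  obtain ⟨wC, hwC⟩ := hC d hd.1
  obtain ⟨wE, hwE⟩ := hE d hd.2
  have hfix : TensorProduct.map π π (CoalgebraStruct.comul (R := k) d) = CoalgebraStruct.comul (R := k) d := by
    rw [← hwC, ← LinearMap.comp_apply, ← TensorProduct.map_comp]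
    congr 2 <;> exact LinearMap.ext fun c => h1 c c.2
  rw [← hfix, ← hwE, ← LinearMap.comp_apply, ← TensorProduct.map_comp]
  clear hwE
  induction wE using TensorProduct.induction_on with
  | zero => simp
  | add a b ha hb => rw [map_add]; exact add_mem ha hb
  | tmul a b => exact ⟨⟨_, h3 a a.2⟩ ⊗ₜ ⟨_, h3 b b.2⟩, rfl⟩

theorem isSubcoalg_sup {C E : Submodule k A} (hC : IsSubcoalg k A C) (hE : IsSubcoalg k A E) :
    IsSubcoalg k A (C ⊔ E) := by
  have hmono : ∀ (P : Submodule k A) (hP : P ≤ C ⊔ E) (d : A),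
      d ∈ P → IsSubcoalg k A P → CoalgebraStruct.comul (R := k) d ∈
        LinearMap.range (TensorProduct.map (C ⊔ E).subtype (C ⊔ E).subtype) := by
    intro P hP d hd hs
    obtain ⟨w, hw⟩ := hs d hd
    refine ⟨TensorProduct.map (Submodule.inclusion hP) (Submodule.inclusion hP) w, ?_⟩
    rw [← hw, ← LinearMap.comp_apply, ← TensorProduct.map_comp]
    rfl
  intro d hd
  obtain ⟨c, hc, e, he, rfl⟩ := Submodule.mem_sup.mp hd
  rw [map_add]
  exact add_mem (hmono C le_sup_left c hc hC) (hmono E le_sup_right e he hE)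

theorem isSubcoalg_bot : IsSubcoalg k A (⊥ : Submodule k A) := fun d hd => by
  rw [(Submodule.mem_bot k).mp hd, map_zero]; exact zero_mem _

theorem counit_eq {d : A} (f : A →ₗ[k] k) (C E : Submodule k A) (hdE : CoalgebraStruct.comul (R := k) d ∈
      LinearMap.range (TensorProduct.map C.subtype E.subtype)) (hf : ∀ e ∈ E, f e = CoalgebraStruct.counit (R := k) e) :
    ct f (CoalgebraStruct.comul (R := k) d) = d := by
  have h := Coalgebra.lTensor_counit_comul (R := k) d
  obtain ⟨w, hw⟩ := hdE
  rw [← hw] at h ⊢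
  have heq : ct f (TensorProduct.map C.subtype E.subtype w) =
      TensorProduct.rid k A ((CoalgebraStruct.counit (R := k)).lTensor A (TensorProduct.map C.subtype E.subtype w)) := by
    clear hw h
    induction w using TensorProduct.induction_on with
    | zero => simp
    | add a b ha hb => simp only [map_add, ha, hb]
    | tmul a b => simp [ct_tmul, hf b b.2]
  rw [heq, h]
  simp

theorem simple_le_sup {C E F : Submodule k A} (hC : IsSimpleSubcoalg k A C) (hE : IsSubcoalg k A E)
    (hF : IsSubcoalg k A F) (h : C ≤ E ⊔ F) : C ≤ E ∨ C ≤ F := by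
  rcases hC.2.2 _ inf_le_left (isSubcoalg_inf hC.2.1 hE) with h0 | h0
  swap
  · exact Or.inl (inf_eq_left.mp h0)
  refine Or.inr fun c hc => ?_
  obtain ⟨π, h1, h2, h3⟩ := exists_proj C E
  set f : A →ₗ[k] k := CoalgebraStruct.counit (R := k) ∘ₗ π with hf
  rw [← counit_eq f C C (hC.2.1 c hc) (fun e he => by rw [hf, LinearMap.comp_apply, h1 e he])]
  obtain ⟨e, he, e', he', rfl⟩ := Submodule.mem_sup.mp (h hc)
  rw [map_add, map_add]
  refine add_mem ?_ ?_
  · obtain ⟨w, hw⟩ := hE e he
    have : ct f (CoalgebraStruct.comul (R := k) e) = 0 := by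
      rw [← hw]
      clear hw
      induction w using TensorProduct.induction_on with
      | zero => simp
      | add a b ha hb => rw [map_add, map_add, ha, hb, add_zero]
      | tmul a b =>
        have : π b = 0 := by
          have := h3 b b.2
          rw [h0] at this
          exact this
        simp [ct_tmul, hf, this]
    rw [this]; exact zero_mem _
  · obtain ⟨w, hw⟩ := hF e' he'
    refine ct_mem f (P := F) ?_
    rw [← hw]
    exact ⟨F.subtype.lTensor F w, by rw [← LinearMap.comp_apply, LinearMap.rTensor_comp_lTensor]⟩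

theorem not_le_finset_sup (D : SimpSub k A) : ∀ s : Finset (SimpSub k A), D ∉ s →
    ¬ D.1 ≤ s.sup (fun E => E.1) ∧ IsSubcoalg k A (s.sup fun E => E.1) := by
  classical
  intro s
  induction s using Finset.induction_on with
  | empty => exact fun _ => ⟨fun h => D.2.1 (le_bot_iff.mp h), isSubcoalg_bot⟩
  | insert E s hE ih =>
    intro hD
    rw [Finset.mem_insert, not_or] at hD
    obtain ⟨h1, h2⟩ := ih hD.2
    rw [Finset.sup_insert]
    refine ⟨fun h => ?_, isSubcoalg_sup E.2.2.1 h2⟩
    rcases simple_le_sup D.2 E.2.2.1 h2 h with h' | h'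
    · rcases E.2.2.2 D.1 h' D.2.2.1 with h'' | h''
      · exact D.2.1 h''
      · exact hD.1 (Subtype.ext h'')
    · exact h1 h'

theorem exists_inter_ne_bot (hM : (⨆ D : SimpSub k A, isoComp M D.1) = ⊤) {N : Submodule k M}
    (hN : IsSubcomod (k := k) (A := A) N) (hne : N ≠ ⊥) :
    ∃ D : SimpSub k A, N ⊓ isoComp M D.1 ≠ ⊥ := by
  classical
  obtain ⟨x, hxN, hx0⟩ := Submodule.exists_mem_ne_zero_of_ne_bot hne
  obtain ⟨c, hc, hsum⟩ := (Submodule.mem_iSup_iff_exists_finsupp _ x).mp (hM ▸ Submodule.mem_top)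
  obtain ⟨D, hD⟩ : ∃ D, c D ≠ 0 := by
    by_contra h
    push Not at h
    exact hx0 (hsum ▸ Finset.sum_eq_zero fun i _ => h i)
  obtain ⟨h1, h2⟩ := not_le_finset_sup D (c.support.erase D) (Finset.notMem_erase _ _)
  set X := (c.support.erase D).sup (fun E => E.1)
  have h0 : D.1 ⊓ X = ⊥ := (D.2.2.2 _ inf_le_left (isSubcoalg_inf D.2.2.1 h2)).resolve_right
    fun h => h1 (inf_eq_left.mp h)
  obtain ⟨π, p1, -, p3⟩ := exists_proj D.1 X
  set f : A →ₗ[k] k := CoalgebraStruct.counit (R := k) ∘ₗ π with hf
  have hkey : ct f (Comod.coact (k := k) (A := A) x) = c D := by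
    rw [← hsum, Finsupp.sum, map_sum, map_sum]
    rw [Finset.sum_eq_single D]
    · obtain ⟨w, hw⟩ := (hc D : Comod.coact (k := k) (A := A) (c D) ∈ LinearMap.range (D.1.subtype.lTensor M))
      have h := LinearMap.congr_fun (Comod.counit_comp (k := k) (A := A) (V := M)) (c D)
      rw [LinearMap.comp_apply, ← hw] at h
      have heq : ct f (D.1.subtype.lTensor M w) =
          TensorProduct.rid k M ((CoalgebraStruct.counit (R := k)).lTensor M (D.1.subtype.lTensor M w)) := by
        clear hw h
        induction w using TensorProduct.induction_on with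
        | zero => simp
        | add a b ha hb => simp only [map_add, ha, hb]
        | tmul a b => simp [ct_tmul, hf, p1 b b.2]
      rw [← hw, heq, h]
      simp
    · intro E hE hED
      obtain ⟨w, hw⟩ := (hc E : Comod.coact (k := k) (A := A) (c E) ∈ LinearMap.range (E.1.subtype.lTensor M))
      rw [← hw]
      have hle : E.1 ≤ X := Finset.le_sup (f := fun E : SimpSub k A => E.1) (Finset.mem_erase.mpr ⟨hED, hE⟩)
      clear hw
      induction w using TensorProduct.induction_on with
      | zero => simp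
      | add a b ha hb => rw [map_add, map_add, ha, hb, add_zero]
      | tmul a b =>
        have : π b = 0 := by
          have := p3 b (hle b.2)
          rw [h0] at this
          exact this
        simp [ct_tmul, hf, this]
    · intro h
      simp [Finsupp.notMem_support_iff.mp h]
  refine ⟨D, fun hbot => hD ?_⟩
  have : c D ∈ N ⊓ isoComp M D.1 := ⟨hkey ▸ ct_mem f (hN x hxN), hc D⟩
  rw [hbot] at this
  exact this

end coalg

section hopf
variable [CommRing A] [Bialgebra k A] {R : Type w} [CommRing R] [Algebra k R] [Comod k A R]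
  [Module R M] [IsScalarTower k R M] [Comod k A M] [TameAct.IsHopfMod k A R M]

theorem isSubcomod_genIn (S : Set (SimpSub k A)) {N : Submodule R M}
    (hN : IsSubcomod (k := k) (A := A) (N.restrictScalars k)) :
    IsSubcomod (k := k) (A := A) ((genIn k A R M S N).restrictScalars k) := by
  intro v hv
  have hv' : v ∈ genIn k A R M S N := hv
  clear hv
  set P := genIn k A R M S N with hP
  rw [hP, genIn] at hv'
  induction hv' using Submodule.span_induction with
  | mem y hy =>
    obtain ⟨D, hDS, hy⟩ := Set.mem_iUnion₂.mp hy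
    obtain ⟨z, hz⟩ := isSubcomod_isoComp_inter D.2.2.1 hN y hy
    have hle : N.restrictScalars k ⊓ isoComp M D.1 ≤ P.restrictScalars k := fun a ha =>
      Submodule.subset_span (Set.mem_iUnion₂.mpr ⟨D, hDS, ha⟩)
    exact ⟨(Submodule.inclusion hle).rTensor A z, by rw [← LinearMap.rTensor_comp_apply]; exact hz⟩
  | zero => rw [map_zero]; exact zero_mem _
  | add a b _ _ ha hb => rw [map_add]; exact add_mem ha hb
  | smul r y _ hy =>
    rw [TameAct.IsHopfMod.coact_smul (k := k) (A := A)]
    obtain ⟨z, hz⟩ := hy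
    rw [← hz]
    generalize Comod.coact (k := k) (A := A) r = q
    clear hz
    induction q using TensorProduct.induction_on with
    | zero => simp
    | add a b ha hb => rw [map_add, LinearMap.add_apply]; exact add_mem ha hb
    | tmul a c =>
      induction z using TensorProduct.induction_on with
      | zero => simp
      | add a b ha hb => rw [map_add, map_add]; exact add_mem ha hb
      | tmul p c' =>
        exact ⟨⟨a • (p : M), Submodule.smul_mem P a p.2⟩ ⊗ₜ (c * c'), by simp⟩

variable {h : SimpSub k A → ℕ} {θ : SimpSub k A → ℚ}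

theorem isSubcomod_top : IsSubcomod (k := k) (A := A) ((⊤ : Submodule R M).restrictScalars k) :=
  fun v _ => mem_range_rTensor fun _ => trivial

end hopf

section weight
variable [AddCommGroup A] [Module k A] [Coalgebra k A] [Comod k A M] {R : Type w} [CommRing R]
  [Algebra k R] [Module R M] [IsScalarTower k R M]
  {h : SimpSub k A → ℕ} {θ : SimpSub k A → ℚ}
theorem genIn_le (S : Set (SimpSub k A)) (N : Submodule R M) : genIn k A R M S N ≤ N := by
  refine Submodule.span_le.mpr fun y hy => ?_
  obtain ⟨D, -, hy⟩ := Set.mem_iUnion₂.mp hy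
  exact hy.1

theorem le_genIn {S : Set (SimpSub k A)} (N : Submodule R M) {D : SimpSub k A} (hD : D ∈ S) :
    N.restrictScalars k ⊓ isoComp M D.1 ≤ (genIn k A R M S N).restrictScalars k := fun a ha =>
  Submodule.subset_span (Set.mem_iUnion₂.mpr ⟨D, hD, ha⟩)

theorem genIn_genIn (S : Set (SimpSub k A)) (N : Submodule R M) :
    genIn k A R M S (genIn k A R M S N) = genIn k A R M S N := by
  refine le_antisymm (genIn_le S _) (Submodule.span_le.mpr fun y hy => ?_)
  obtain ⟨D, hD, hy⟩ := Set.mem_iUnion₂.mp hy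
  exact Submodule.subset_span (Set.mem_iUnion₂.mpr ⟨D, hD, le_genIn N hD hy, hy.2⟩)

variable (hM : IsConstellation k A R M h) (hsum : HasSum (fun D => (θ D : ℝ) * (h D : ℝ)) 0)

include hM in
theorem hilbAt_le (N : Submodule k M) (D : SimpSub k A) : hilbAt M N D ≤ h D := by
  haveI := (hM.2.2 D).1
  rw [← (hM.2.2 D).2]
  exact Submodule.finrank_mono inf_le_right

include hM in
theorem hilbAt_mono {N N' : Submodule k M} (hle : N ≤ N') (D : SimpSub k A) : hilbAt M N D ≤ hilbAt M N' D := by
  haveI := (hM.2.2 D).1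
  haveI : Module.Finite k ↥(N' ⊓ isoComp M D.1) :=
    Submodule.finiteDimensional_of_le inf_le_right
  exact Submodule.finrank_mono (inf_le_inf_right _ hle)

include hM hsum in
theorem hasSum_theta (N : Submodule k M) :
    HasSum (fun D => (θ D : ℝ) * (hilbAt M N D : ℝ)) (theta M θ N) := by
  refine (Summable.of_norm_bounded hsum.summable.abs fun D => ?_).hasSum
  rw [Real.norm_eq_abs, abs_mul, abs_mul, Nat.abs_cast, Nat.abs_cast]
  exact mul_le_mul_of_nonneg_left (by exact_mod_cast hilbAt_le hM N D) (abs_nonneg _)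

include hM hsum in
theorem theta_top : theta M θ (⊤ : Submodule k M) = 0 := by
  refine (hasSum_theta hM hsum ⊤).unique ?_
  have : ∀ D, hilbAt M (⊤ : Submodule k M) D = h D := fun D => by
    rw [hilbAt, top_inf_eq]; exact (hM.2.2 D).2
  simpa only [this] using hsum

omit [Algebra k R] [Module R M] [IsScalarTower k R M] in
theorem theta_bot : theta M θ (⊥ : Submodule k M) = 0 := by
  rw [theta]
  refine (tsum_congr fun D => ?_).trans tsum_zero
  rw [hilbAt, bot_inf_eq, finrank_bot, Nat.cast_zero, mul_zero]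

include hM in
theorem eq_top_of_hilbAt {N : Submodule R M} (hN : ∀ D, hilbAt M (N.restrictScalars k) D = h D) : N = ⊤ := by
  have hall : (⊤ : Submodule k M) ≤ N.restrictScalars k := by
    rw [← hM.2.1]
    refine iSup_le fun D => ?_
    haveI := (hM.2.2 D).1
    have := Submodule.eq_of_le_of_finrank_eq (inf_le_right : N.restrictScalars k ⊓ isoComp M D.1 ≤ isoComp M D.1)
      ((hN D).trans (hM.2.2 D).2.symm)
    exact inf_eq_right.mp this
  exact Submodule.eq_top_iff'.mpr fun x => hall Submodule.mem_top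

include hM hsum in
theorem theta_le_of_genIn {S : Set (SimpSub k A)} (hS : S = {D | θ D < 0}) (N : Submodule R M) :
    theta M θ ((genIn k A R M S N).restrictScalars k) ≤ theta M θ (N.restrictScalars k) := by
  refine hasSum_le (fun D => ?_) (hasSum_theta hM hsum _) (hasSum_theta hM hsum _)
  have hle : (genIn k A R M S N).restrictScalars k ≤ N.restrictScalars k := fun a ha => genIn_le S N ha
  by_cases hD : θ D < 0
  · have : hilbAt M ((genIn k A R M S N).restrictScalars k) D = hilbAt M (N.restrictScalars k) D := by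
      have e : (genIn k A R M S N).restrictScalars k ⊓ isoComp M D.1 = N.restrictScalars k ⊓ isoComp M D.1 :=
        le_antisymm (inf_le_inf_right _ hle) (le_inf (le_genIn N (show D ∈ S by rw [hS]; exact hD)) inf_le_right)
      rw [hilbAt, hilbAt, e]
    rw [this]
  · refine mul_le_mul_of_nonneg_left ?_ (by exact_mod_cast not_lt.mp hD)
    exact_mod_cast hilbAt_mono hM hle D

include hM hsum in
/-- a submodule containing every negative component has non-positive weight -/
theorem theta_le_zero {N : Submodule R M} (hN : ∀ D, θ D < 0 → isoComp M D.1 ≤ N.restrictScalars k) :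
    theta M θ (N.restrictScalars k) ≤ 0 ∧
      (N ≠ ⊤ → (∀ D, h D ≠ 0 → θ D ≠ 0) → theta M θ (N.restrictScalars k) < 0) := by
  have hle : ∀ D, (θ D : ℝ) * (hilbAt M (N.restrictScalars k) D : ℝ) ≤ (θ D : ℝ) * (h D : ℝ) := fun D => by
    by_cases hD : θ D < 0
    · rw [hilbAt, inf_eq_right.mpr (hN D hD), (hM.2.2 D).2]
    · exact mul_le_mul_of_nonneg_left (by exact_mod_cast hilbAt_le hM _ D) (by exact_mod_cast not_lt.mp hD)
  refine ⟨hasSum_le hle (hasSum_theta hM hsum _) hsum, fun hne hθ => ?_⟩
  obtain ⟨D, hD⟩ : ∃ D, hilbAt M (N.restrictScalars k) D ≠ h D := by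
    by_contra hcon
    push Not at hcon
    exact hne (eq_top_of_hilbAt hM hcon)
  have hlt : hilbAt M (N.restrictScalars k) D < h D := lt_of_le_of_ne (hilbAt_le hM _ D) hD
  have hpos : 0 < θ D := by
    refine lt_of_le_of_ne (not_lt.mp fun hneg => hD ?_) (hθ D (by omega)).symm
    rw [hilbAt, inf_eq_right.mpr (hN D hneg), (hM.2.2 D).2]
  exact hasSum_lt hle (i := D)
    (mul_lt_mul_of_pos_left (by exact_mod_cast hlt) (by exact_mod_cast hpos)) (hasSum_theta hM hsum _) hsum

include hM hsum in
theorem theta_pos_of_no_negative {N : Submodule R M} (hN : IsSubcomod (k := k) (A := A) (N.restrictScalars k))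
    (hne : N ≠ ⊥) (hneg : ∀ D, θ D < 0 → N.restrictScalars k ⊓ isoComp M D.1 = ⊥)
    (hθ : ∀ D, h D ≠ 0 → θ D ≠ 0) : 0 < theta M θ (N.restrictScalars k) := by
  have hne' : N.restrictScalars k ≠ ⊥ := fun h0 => hne (by
    rw [eq_bot_iff]; intro x hx; rw [Submodule.mem_bot]
    have : x ∈ N.restrictScalars k := hx
    rw [h0] at this; exact this)
  obtain ⟨D, hD⟩ := exists_inter_ne_bot hM.2.1 hN hne'
  have hposD : 0 < hilbAt M (N.restrictScalars k) D := by
    haveI := (hM.2.2 D).1
    haveI : Module.Finite k ↥(N.restrictScalars k ⊓ isoComp M D.1) :=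
      Submodule.finiteDimensional_of_le inf_le_right
    exact Nat.pos_of_ne_zero fun h0 => hD (Submodule.finrank_eq_zero.mp h0)
  have hnn : ∀ E, (0 : ℝ) ≤ (θ E : ℝ) * (hilbAt M (N.restrictScalars k) E : ℝ) := fun E => by
    by_cases hE : θ E < 0
    · rw [hilbAt, hneg E hE, finrank_bot, Nat.cast_zero, mul_zero]
    · exact mul_nonneg (by exact_mod_cast not_lt.mp hE) (Nat.cast_nonneg _)
  have hθD : 0 < θ D := lt_of_le_of_ne (not_lt.mp fun h' => hD (hneg D h'))
    (hθ D (by have := hilbAt_le hM (N.restrictScalars k) D; omega)).symm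
  exact hasSum_lt (f := fun _ => (0 : ℝ)) hnn (i := D)
    (mul_pos (by exact_mod_cast hθD) (by exact_mod_cast hposD)) hasSum_zero (hasSum_theta hM hsum _)

end weight

section main
variable [CommRing A] [Bialgebra k A] {R : Type w} [CommRing R] [Algebra k R] [Comod k A R]
  [Module R M] [IsScalarTower k R M] [Comod k A M] [TameAct.IsHopfMod k A R M]
  {h : SimpSub k A → ℕ} {θ : SimpSub k A → ℚ}
  (hsum : HasSum (fun D => (θ D : ℝ) * (h D : ℝ)) 0) (hM : IsConstellation k A R M h)

omit [TameAct.IsHopfMod k A R M] in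
theorem isoComp_le_genIn_top {D : SimpSub k A} (hD : θ D < 0) :
    isoComp M D.1 ≤ (genIn k A R M {D | θ D < 0} ⊤).restrictScalars k := fun a ha =>
  le_genIn (S := {D | θ D < 0}) (⊤ : Submodule R M) hD ⟨trivial, ha⟩

include hsum hM in
theorem gen_of_stable (hne : ∃ D, θ D ≠ 0 ∧ h D ≠ 0) (hst : IsThetaStable k A R M θ) :
    genIn k A R M {D | θ D < 0} ⊤ = ⊤ := by
  by_contra hcon
  set N := genIn k A R M {D | θ D < 0} (⊤ : Submodule R M) with hNdef
  by_cases hbot : N = ⊥
  · have hz : ∀ D, θ D < 0 → h D = 0 := fun D hD => by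
      have hle := isoComp_le_genIn_top (R := R) (M := M) hD
      rw [← hNdef, hbot] at hle
      have : isoComp M D.1 = ⊥ := eq_bot_iff.mpr fun a ha => by simpa using hle ha
      rw [← (hM.2.2 D).2, this, finrank_bot]
    have hnn : ∀ D, (0 : ℝ) ≤ (θ D : ℝ) * (h D : ℝ) := fun D => by
      by_cases hD : θ D < 0
      · simp [hz D hD]
      · exact mul_nonneg (by exact_mod_cast not_lt.mp hD) (Nat.cast_nonneg _)
    obtain ⟨D, hD1, hD2⟩ := hne
    have := congrFun ((hasSum_zero_iff_of_nonneg hnn).mp hsum) D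
    simp only [Pi.zero_apply, mul_eq_zero, Rat.cast_eq_zero, Nat.cast_eq_zero] at this
    exact this.elim hD1 hD2
  · exact (not_le.mpr (hst.2 N (isSubcomod_genIn _ isSubcomod_top) hbot hcon))
      (theta_le_zero hM hsum fun D hD => isoComp_le_genIn_top hD).1

include hsum hM in
theorem gen_of_semistable (hθ : ∀ D, θ D ≠ 0) (hss : IsThetaSemistable k A R M θ) :
    genIn k A R M {D | θ D < 0} ⊤ = ⊤ := by
  by_contra hcon
  exact (not_lt.mpr (hss.2 _ (isSubcomod_genIn _ isSubcomod_top)))
    ((theta_le_zero hM hsum fun D hD => isoComp_le_genIn_top hD).2 hcon fun D _ => hθ D)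

include hsum hM in
theorem semistable_of_gen (h0 : theta M θ ⊤ = 0)
    (hss : ∀ N : Submodule R M, IsSubcomod (k := k) (A := A) (N.restrictScalars k) → N ≠ ⊥ → N ≠ ⊤ →
      genIn k A R M {D | θ D < 0} N = N → 0 ≤ theta M θ (N.restrictScalars k)) :
    IsThetaSemistable k A R M θ := by
  refine ⟨h0, fun N hN => ?_⟩
  refine le_trans ?_ (theta_le_of_genIn hM hsum rfl N)
  set N' := genIn k A R M {D | θ D < 0} N with hN'
  by_cases hb : N' = ⊥
  · rw [hb, Submodule.restrictScalars_bot, theta_bot]
  by_cases ht : N' = ⊤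
  · rw [ht, Submodule.restrictScalars_top, h0]
  exact hss N' (isSubcomod_genIn _ hN) hb ht (genIn_genIn _ N)

include hsum hM in
theorem stable_of_gen (hθ : ∀ D, h D ≠ 0 → θ D ≠ 0) (h0 : theta M θ ⊤ = 0)
    (hs : ∀ N : Submodule R M, IsSubcomod (k := k) (A := A) (N.restrictScalars k) → N ≠ ⊥ → N ≠ ⊤ →
      genIn k A R M {D | θ D < 0} N = N → 0 < theta M θ (N.restrictScalars k)) :
    IsThetaStable k A R M θ := by
  refine ⟨h0, fun N hN hb ht => ?_⟩
  by_cases hb' : genIn k A R M {D | θ D < 0} N = ⊥
  · refine theta_pos_of_no_negative hM hsum hN hb (fun D hD => ?_) hθ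
    refine eq_bot_iff.mpr fun a ha => ?_
    have := le_genIn (S := {D | θ D < 0}) N hD ha
    rwa [hb', Submodule.restrictScalars_bot] at this
  · refine lt_of_lt_of_le ?_ (theta_le_of_genIn hM hsum rfl N)
    refine hs _ (isSubcomod_genIn _ hN) hb' (fun h' => ht ?_) (genIn_genIn _ N)
    exact top_le_iff.mp (h' ▸ genIn_le _ N)

include hsum hM in
theorem stable_of_cyclic (D₀ : SimpSub k A) (h1 : h D₀ = 1) (hneg : ∀ D, θ D < 0 ↔ D = D₀)
    (hθ : ∀ D, h D ≠ 0 → θ D ≠ 0) (hgen : genIn k A R M {D₀} ⊤ = ⊤) :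
    IsThetaStable k A R M θ := by
  refine stable_of_gen hsum hM hθ (theta_top hM hsum) fun N _ hb ht hg => absurd ?_ ht
  have hS : {D | θ D < 0} = ({D₀} : Set (SimpSub k A)) := Set.ext fun D => hneg D
  rw [hS] at hg
  haveI := (hM.2.2 D₀).1
  haveI : Module.Finite k ↥(N.restrictScalars k ⊓ isoComp M D₀.1) :=
    Submodule.finiteDimensional_of_le inf_le_right
  have hle := hilbAt_le hM (N.restrictScalars k) D₀
  rw [h1] at hle
  rcases Nat.le_one_iff_eq_zero_or_eq_one.mp hle with h0 | h0
  · refine absurd ?_ hb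
    rw [← hg, eq_bot_iff]
    refine Submodule.span_le.mpr fun y hy => ?_
    obtain ⟨D, hD, hy'⟩ := Set.mem_iUnion₂.mp hy
    obtain rfl : D = D₀ := hD
    rw [Submodule.finrank_eq_zero.mp h0] at hy'
    simpa using hy'
  · have e : N.restrictScalars k ⊓ isoComp M D₀.1 = isoComp M D₀.1 :=
      Submodule.eq_of_le_of_finrank_eq inf_le_right (h0.trans ((hM.2.2 D₀).2.trans h1).symm)
    rw [eq_top_iff, ← hgen]
    refine Submodule.span_le.mpr fun y hy => ?_
    obtain ⟨D, hD, hy'⟩ := Set.mem_iUnion₂.mp hy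
    obtain rfl : D = D₀ := hD
    have : y ∈ N.restrictScalars k := inf_eq_right.mp e hy'.2
    exact this

end main

end Groth.Agent.ConstellLib
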